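import Groth.Agent.Lib.GlueH7.Exists
import Groth.Agent.Lib.GlueH7.Alg
import Mathlib.RingTheory.Localization.BaseChange
import Mathlib.RingTheory.Etale.Basic

/-!
# Glueing etale algebras with their universal property
-/

universe u

open TensorProduct

namespace Groth.Agent.GlueHom25

theorem exists_glue_algebra {A S : Type u} [CommRing A] [CommRing S] [Algebra A S] {g : A}
    (h : EtGlue.IsGlueingPair A S g) (B₁ : Type u) [CommRing B₁] [Algebra A B₁]
    [Algebra (Localization.Away g) B₁] [IsScalarTower A (Localization.Away g) B₁]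
    [Algebra.Etale (Localization.Away g) B₁]
    (B' : Type u) [CommRing B'] [Algebra A B'] [Algebra S B'] [IsScalarTower A S B'] [Algebra.Etale S B']
    (φ : Localization.Away (algebraMap A B' g) ≃ₐ[S] S ⊗[A] B₁) :
    ∃ (B : Type u) (_ : CommRing B) (_ : Algebra A B) (q₁ : B →ₐ[A] B') (q₂ : B →ₐ[A] B₁),
      Algebra.Etale A B ∧
      (letI := q₂.toRingHom.toAlgebra; IsLocalization.Away (algebraMap A B g) B₁) ∧
      Function.Bijective (Algebra.TensorProduct.lift (Algebra.ofId S B') q₁ (fun _ _ => Commute.all _ _)) ∧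
      (∀ z z', q₁ z = q₁ z' → q₂ z = q₂ z' → z = z') ∧
      ∀ (C : Type u) [CommRing C] (γ₁ : C →+* B') (γ₂ : C →+* B₁),
        (∀ c, φ (algebraMap B' _ (γ₁ c)) = (1 : S) ⊗ₜ[A] γ₂ c) →
          ∃ δ : C →+* B, q₁.toRingHom.comp δ = γ₁ ∧ q₂.toRingHom.comp δ = γ₂ := by
  let j : B' →ₐ[A] S ⊗[A] B₁ :=
    (φ.toAlgHom.comp (IsScalarTower.toAlgHom S B' (Localization.Away (algebraMap A B' g)))).restrictScalars A
  let β : B' →ₗ[S] S ⊗[A] B₁ := φ.toLinearEquiv.toLinearMap.comp
    (IsScalarTower.toAlgHom S B' (Localization.Away (algebraMap A B' g))).toLinearMap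
  haveI : IsLocalizedModule (Submonoid.powers (algebraMap A S g))
      (IsScalarTower.toAlgHom S B' (Localization.Away (algebraMap A B' g))).toLinearMap := by
    rw [isLocalizedModule_iff_isLocalization, Algebra.algebraMapSubmonoid_powers,
      ← IsScalarTower.algebraMap_apply]
    exact inferInstanceAs (IsLocalization.Away (algebraMap A B' g) (Localization.Away (algebraMap A B' g)))
  haveI : IsLocalizedModule (Submonoid.powers (algebraMap A S g)) β := IsLocalizedModule.of_linearEquiv _ _ _
  let B : Subalgebra A (B' × B₁) :=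
    AlgHom.equalizer (j.comp (AlgHom.fst A B' B₁))
      ((Algebra.TensorProduct.includeRight (R := A) (A := S) (B := B₁)).comp (AlgHom.snd A B' B₁))
  let q₁ : B →ₐ[A] B' := (AlgHom.fst A B' B₁).comp B.val
  let q₂ : B →ₐ[A] B₁ := (AlgHom.snd A B' B₁).comp B.val
  have d : Groth.Agent.GlueH7.GlueData β q₁.toLinearMap q₂.toLinearMap :=
    ⟨fun m => m.2, fun m h1 h2 => Subtype.ext (Prod.ext h1 h2), fun x y h => ⟨⟨(x, y), h⟩, rfl, rfl⟩⟩
  have hu : IsUnit (algebraMap A B₁ g) := by
    rw [IsScalarTower.algebraMap_apply A (Localization.Away g) B₁]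
    exact (IsLocalization.Away.algebraMap_isUnit g).map _
  have hf : Function.Bijective fun x : B₁ => g • x := by
    simp only [Algebra.smul_def]
    exact IsUnit.isUnit_iff_mulLeft_bijective.1 hu
  letI : Algebra B B₁ := q₂.toRingHom.toAlgebra
  haveI : IsScalarTower A B B₁ := IsScalarTower.of_algebraMap_eq fun r => (q₂.commutes r).symm
  haveI hloc : IsLocalization.Away (algebraMap A B g) B₁ := by
    have h := d.isLocalizedModule hf
    have heq : q₂.toLinearMap = (IsScalarTower.toAlgHom A B B₁).toLinearMap := rfl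
    rw [heq, isLocalizedModule_iff_isLocalization, Algebra.algebraMapSubmonoid_powers] at h
    exact h
  let T : S ⊗[A] B →ₐ[S] B' := Algebra.TensorProduct.lift (Algebra.ofId S B') q₁ (fun _ _ => Commute.all _ _)
  have hT : (T : S ⊗[A] B → B') = LinearMap.liftBaseChange S q₁.toLinearMap := by
    funext z
    induction z using TensorProduct.induction_on with
    | zero => simp
    | tmul r a => simp [T, Algebra.smul_def]
    | add a b ha hb => simp only [map_add, ha, hb]
  have hbij : Function.Bijective T := by rw [hT]; exact d.bijective h hf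
  have : Algebra.Etale S (S ⊗[A] B) := Algebra.Etale.of_equiv (AlgEquiv.ofBijective T hbij).symm
  have : IsLocalization (Algebra.algebraMapSubmonoid B (Submonoid.powers g)) B₁ := by
    rw [Algebra.algebraMapSubmonoid_powers]; exact hloc
  have : Algebra.IsPushout A (Localization.Away g) B B₁ :=
    (Algebra.isPushout_of_isLocalization (Submonoid.powers g) (Localization.Away g) B B₁).symm
  have : Algebra.Etale (Localization.Away g) (Localization.Away g ⊗[A] B) :=
    Algebra.Etale.of_equiv (Algebra.IsPushout.equiv A (Localization.Away g) B B₁).symm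
  refine ⟨B, inferInstance, inferInstance, q₁, q₂, Groth.Agent.GlueH7.etale_of_pair h, hloc, hbij,
    fun z z' h₁ h₂ => Subtype.ext (Prod.ext h₁ h₂),
    fun C _ γ₁ γ₂ hc => ⟨(γ₁.prod γ₂).codRestrict B fun c => hc c, rfl, rfl⟩⟩

end Groth.Agent.GlueHom25
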