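import Groth.Agent.Lib.GluePair25.Space
import Groth.Agent.Lib.AlgSpace.Affine
import Groth.Agent.Lib.AlgSpace.Diag
import Groth.Prelude.Def_AlgSp3

/-!
# Glueing data for morphisms of spaces along a glueing pair
-/

universe u

set_option backward.isDefEq.respectTransparency.types false

open CategoryTheory CategoryTheory.Limits AlgebraicGeometry TensorProduct
open AlgSp Groth.Agent.AlgSpace Groth.Agent.AlgSpDescent Groth.Agent.Glueable27 Groth.Agent.GluePair25

namespace Groth.Agent.GlueHom25

variable {R : Type u} [CommRing R] {R' : Type u} [CommRing R'] [Algebra R R'] {f : R}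

theorem specMap_comp {A B C : Type u} [CommRing A] [CommRing B] [CommRing C] [Algebra R A] [Algebra R B]
    [Algebra R C] (α : A →ₐ[R] B) (β : B →ₐ[R] C) : specMap (β.comp α) = specMap β ≫ specMap α := by
  ext1
  change Spec.map _ = Spec.map _ ≫ Spec.map _
  rw [← Spec.map_comp]
  rfl

theorem yon_specMap_comp {A B C : Type u} [CommRing A] [CommRing B] [CommRing C] [Algebra R A] [Algebra R B]
    [Algebra R C] (α : A →ₐ[R] B) (β : B →ₐ[R] C) {F : Sp (Spec (CommRingCat.of R))}
    (x : (yon _).obj (specOver R A) ⟶ F) :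
    (yon _).map (specMap (β.comp α)) ≫ x = (yon _).map (specMap β) ≫ (yon _).map (specMap α) ≫ x := by
  rw [specMap_comp, (yon _).map_comp, Category.assoc]

theorem exists_specMap_eq {A B : Type u} [CommRing A] [CommRing B] [Algebra R A] [Algebra R B]
    (g : specOver R B ⟶ specOver R A) : ∃ α : A →ₐ[R] B, specMap α = g := by
  refine ⟨⟨(Spec.preimage g.left).hom, fun r => ?_⟩, ?_⟩
  · have h : Spec.map (Spec.preimage g.left) ≫ (specOver R A).hom = (specOver R B).hom := by
      rw [Spec.map_preimage]; exact Over.w g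
    change Spec.map (Spec.preimage g.left) ≫ Spec.map (CommRingCat.ofHom (algebraMap R A)) =
      Spec.map (CommRingCat.ofHom (algebraMap R B)) at h
    rw [← Spec.map_comp] at h
    exact RingHom.congr_fun (congrArg CommRingCat.Hom.hom (Spec.map_injective h)) r
  · ext1
    exact Spec.map_preimage _

theorem specMap_injective {A B : Type u} [CommRing A] [CommRing B] [Algebra R A] [Algebra R B]
    {α β : A →ₐ[R] B} (h : specMap α = specMap β) : α = β :=
  AlgHom.coe_ringHom_injective
    (congrArg CommRingCat.Hom.hom (Spec.map_injective (congrArg CommaMorphism.left h)))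

theorem repWith_etale_specMap {A B : Type u} [CommRing A] [CommRing B] [Algebra R A] [Algebra R B]
    (α : A →ₐ[R] B) (hα : α.toRingHom.Etale) :
    RepWith @Etale ((yon (Spec (CommRingCat.of R))).map (specMap α)) :=
  (repWith_yon_map_iff @Etale _).2 ((HasRingHomProperty.Spec_iff (P := @Etale)).2 hα)

/-- An affine scheme over an affine base is a spectrum. -/
theorem exists_iso_specOver (V : Over (Spec (CommRingCat.of R))) [IsAffine V.left] :
    ∃ (B : Type u) (_ : CommRing B) (_ : Algebra R B), Nonempty (specOver R B ≅ V) := by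
  let ψ : CommRingCat.of R ⟶ Γ(V.left, ⊤) := Spec.preimage (V.left.isoSpec.inv ≫ V.hom)
  letI : Algebra R Γ(V.left, ⊤) := ψ.hom.toAlgebra
  exact ⟨Γ(V.left, ⊤), inferInstance, inferInstance,
    ⟨Over.isoMk V.left.isoSpec.symm (Spec.map_preimage (V.left.isoSpec.inv ≫ V.hom)).symm⟩⟩

/-- Fibre products of affine schemes over a space with affine diagonal, etale on one side. -/
theorem exists_spec_pullback {Z : Space (Spec (CommRingCat.of R))} (hZd : IsAffineMor (Limits.diag Z.obj))
    {A C : Type u} [CommRing A] [CommRing C] [Algebra R A] [Algebra R C]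
    (c : (yon _).obj (specOver R A) ⟶ Z.obj) (w : (yon _).obj (specOver R C) ⟶ Z.obj) (hw : RepWith @Etale w) :
    ∃ (B : Type u) (_ : CommRing B) (_ : Algebra R B) (α : A →ₐ[R] B) (γ : C →ₐ[R] B), α.toRingHom.Etale ∧
      IsPullback ((yon _).map (specMap γ)) ((yon _).map (specMap α)) w c := by
  have sq := hw.1.isPullback c
  obtain ⟨γ₀, hγ₀⟩ := (yon _).map_surjective (hw.1.fst c)
  rw [← hγ₀] at sq
  have he : Etale (hw.1.snd c).left := hw.2 c _ _ sq
  have : IsAffine (hw.1.pullback c).left := by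
    have hd := isAffineMor_iff_repWith.1 hZd
    let P : Over (Spec (CommRingCat.of R)) := specOver R C ⨯ specOver R A
    let i : hw.1.pullback c ⟶ P := prod.lift γ₀ (hw.1.snd c)
    let u : (yon _).obj P ⟶ Z.obj ⨯ Z.obj :=
      prod.lift ((yon _).map prod.fst ≫ w) ((yon _).map prod.snd ≫ c)
    have sq' : IsPullback ((yon _).map γ₀ ≫ w) ((yon _).map i) (Limits.diag Z.obj) u := by
      have h0 := isPullback_diag sq
      refine h0.of_iso (Iso.refl _) (Iso.refl _) (asIso (prodComparison (yon _) (specOver R C) (specOver R A))).symm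
        (Iso.refl _) (by simp) ?_ (by simp) ?_
      · rw [Iso.refl_hom, Category.id_comp, Iso.symm_hom, asIso_inv, IsIso.comp_inv_eq]
        apply Limits.prod.hom_ext
        · refine (Limits.prod.lift_fst _ _).trans (Eq.symm ?_)
          refine (Category.assoc _ _ _).trans ((congrArg (_ ≫ ·) (Limits.prod.lift_fst _ _)).trans ?_)
          exact ((yon _).map_comp _ _).symm.trans (congrArg (yon _).map (Limits.prod.lift_fst _ _))
        · refine (Limits.prod.lift_snd _ _).trans (Eq.symm ?_)
          refine (Category.assoc _ _ _).trans ((congrArg (_ ≫ ·) (Limits.prod.lift_snd _ _)).trans ?_)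
          exact ((yon _).map_comp _ _).symm.trans (congrArg (yon _).map (Limits.prod.lift_snd _ _))
      · rw [Iso.refl_hom, Category.comp_id, Iso.symm_hom, asIso_inv, IsIso.eq_inv_comp]
        apply Limits.prod.hom_ext <;> simp [u, P, prodComparison]
    have : IsAffineHom i.left := hd.2 u _ _ sq'
    have : IsAffineHom (prod.fst : P ⟶ specOver R C).left :=
      MorphismProperty.of_isPullback (P := @IsAffineHom) (isPullback_fst_left _ _).flip
        (inferInstanceAs (IsAffineHom (Spec.map (CommRingCat.ofHom (algebraMap R A)))))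
    have : IsAffine P.left := isAffine_of_isAffineHom (prod.fst : P ⟶ specOver R C).left
    exact isAffine_of_isAffineHom i.left
  obtain ⟨B, _, _, ⟨i⟩⟩ := exists_iso_specOver (hw.1.pullback c)
  obtain ⟨α, hα⟩ := exists_specMap_eq (i.hom ≫ hw.1.snd c)
  obtain ⟨γ, hγ⟩ := exists_specMap_eq (i.hom ≫ γ₀)
  refine ⟨B, inferInstance, inferInstance, α, γ, ?_, ?_⟩
  · have : IsIso i.hom.left := inferInstanceAs (IsIso ((Over.forget _).map i.hom))
    have h1 : Etale (Spec.map (CommRingCat.ofHom α.toRingHom)) := by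
      rw [show Spec.map (CommRingCat.ofHom α.toRingHom) = i.hom.left ≫ (hw.1.snd c).left from
        congrArg CommaMorphism.left hα]
      infer_instance
    exact (HasRingHomProperty.Spec_iff (P := @Etale)).1 h1
  · exact sq.of_iso ((yon _).mapIso i.symm) (Iso.refl _) (Iso.refl _) (Iso.refl _)
      (by simp [hγ]) (by simp [hα]) (by simp) (by simp)

/-- The action of a pair of morphisms on the points over the two pieces. -/
structure Datum (R' : Type u) [CommRing R'] [Algebra R R'] (f : R) (Y Z : Sp (Spec (CommRingCat.of R))) where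
  F₁ : ∀ (T : Type u) [CommRing T] [Algebra R T], IsUnit (algebraMap R T f) →
    ((yon _).obj (specOver R T) ⟶ Y) → ((yon _).obj (specOver R T) ⟶ Z)
  F₂ : ∀ (T : Type u) [CommRing T] [Algebra R T], (R' →ₐ[R] T) →
    ((yon _).obj (specOver R T) ⟶ Y) → ((yon _).obj (specOver R T) ⟶ Z)
  nat₁ : ∀ (T T' : Type u) [CommRing T] [Algebra R T] [CommRing T'] [Algebra R T'] (α : T →ₐ[R] T')
    (hu : IsUnit (algebraMap R T f)) (hu' : IsUnit (algebraMap R T' f)) (y : (yon _).obj (specOver R T) ⟶ Y),
    (yon _).map (specMap α) ≫ F₁ T hu y = F₁ T' hu' ((yon _).map (specMap α) ≫ y)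
  nat₂ : ∀ (T T' : Type u) [CommRing T] [Algebra R T] [CommRing T'] [Algebra R T'] (α : T →ₐ[R] T')
    (ρ : R' →ₐ[R] T) (y : (yon _).obj (specOver R T) ⟶ Y),
    (yon _).map (specMap α) ≫ F₂ T ρ y = F₂ T' (α.comp ρ) ((yon _).map (specMap α) ≫ y)
  compat : ∀ (T : Type u) [CommRing T] [Algebra R T] (hu : IsUnit (algebraMap R T f)) (ρ : R' →ₐ[R] T)
    (y : (yon _).obj (specOver R T) ⟶ Y), F₁ T hu y = F₂ T ρ y

/-- A map extending the datum over a scheme mapping to the source. -/
def Compat {Y Z : Sp (Spec (CommRingCat.of R))} (D : Datum R' f Y Z) {V : Over (Spec (CommRingCat.of R))}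
    (v : (yon _).obj V ⟶ Y) (φ : (yon _).obj V ⟶ Z) : Prop :=
  ∀ (T : Type u) [CommRing T] [Algebra R T] (x : specOver R T ⟶ V),
    (∀ hu, (yon _).map x ≫ φ = D.F₁ T hu ((yon _).map x ≫ v)) ∧
    (∀ ρ, (yon _).map x ≫ φ = D.F₂ T ρ ((yon _).map x ≫ v))

theorem Compat.comp {Y Z : Sp (Spec (CommRingCat.of R))} {D : Datum R' f Y Z}
    {V W : Over (Spec (CommRingCat.of R))} {v : (yon _).obj V ⟶ Y} {φ : (yon _).obj V ⟶ Z}
    (h : Compat D v φ) (k : W ⟶ V) : Compat D ((yon _).map k ≫ v) ((yon _).map k ≫ φ) := fun T _ _ x => by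
  obtain ⟨h₁, h₂⟩ := h T (x ≫ k)
  constructor
  · intro hu; simpa using h₁ hu
  · intro ρ; simpa using h₂ ρ

/-- Extensions over schemes etale over the source are unique. -/
theorem Compat.unique (hq : EtGlue.QuotPowBijective R R' f) {Y Z : Space (Spec (CommRingCat.of R))}
    (hY : ∀ (A : Type u) [CommRing A] [Algebra R A] (g : (yon _).obj (specOver R A) ⟶ Y.obj),
      RepWith @Etale g → EtGlue.IsGlueable R R' f A)
    {D : Datum R' f Y.obj Z.obj} {V : Over (Spec (CommRingCat.of R))} {v : (yon _).obj V ⟶ Y.obj}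
    (hv : RepWith @Etale v) {φ φ' : (yon _).obj V ⟶ Z.obj} (h : Compat D v φ) (h' : Compat D v φ') :
    φ = φ' := by
  let ψ : ∀ O : V.left.affineOpens, R →+* Γ(V.left, O.1) := fun O => (Spec.preimage (O.2.fromSpec ≫ V.hom)).hom
  letI inst : ∀ O : V.left.affineOpens, Algebra R Γ(V.left, O.1) := fun O => (ψ O).toAlgebra
  let c : ∀ O : V.left.affineOpens, specOver R Γ(V.left, O.1) ⟶ V := fun O => Over.homMk O.2.fromSpec (by
    change O.2.fromSpec ≫ V.hom = Spec.map (CommRingCat.ofHom (algebraMap R Γ(V.left, O.1)))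
    exact (Spec.map_preimage _).symm)
  have : ∀ O : V.left.affineOpens, Etale (c O).left := fun O => inferInstanceAs (Etale O.2.fromSpec)
  refine hom_ext_etale (fun O : V.left.affineOpens => specOver R Γ(V.left, O.1)) c (fun t => ?_) fun O => ?_
  · obtain ⟨_, ⟨U, hU, rfl⟩, htU, -⟩ :=
      V.left.isBasis_affineOpens.exists_subset_of_mem_open (Set.mem_univ t) isOpen_univ
    exact ⟨⟨U, hU⟩, hU.range_fromSpec.symm ▸ htU⟩
  · refine eq_of_forall_piece hq (fun B _ _ α hα => hY B ((yon _).map (specMap α) ≫ (yon _).map (c O) ≫ v)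
      (repWith_comp (repWith_etale_specMap α hα)
        (repWith_comp ((repWith_yon_map_iff @Etale _).2 (this O)) hv)))
      _ _ fun T _ _ α hT => ?_
    rcases hT with hu | ⟨⟨ρ⟩⟩
    · simpa using ((h T (specMap α ≫ c O)).1 hu).trans ((h' T (specMap α ≫ c O)).1 hu).symm
    · simpa using ((h T (specMap α ≫ c O)).2 ρ).trans ((h' T (specMap α ≫ c O)).2 ρ).symm

end Groth.Agent.GlueHom25
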