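import Groth.Agent.Lib.GlueHom25.Global

/-!
# The datum of a pair of morphisms on the two pieces
-/

universe u

set_option backward.isDefEq.respectTransparency.types false

open CategoryTheory CategoryTheory.Limits AlgebraicGeometry TensorProduct
open AlgSp Groth.Agent.AlgSpace Groth.Agent.AlgSpDescent Groth.Agent.Glueable27 Groth.Agent.GluePair25

namespace Groth.Agent.GlueHom25

variable {R : Type u} [CommRing R]

theorem yon_id_ext {T : Over (Spec (CommRingCat.of R))}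
    (s t : (yon (Spec (CommRingCat.of R))).obj T ⟶ (yon _).obj (Over.mk (𝟙 _))) : s = t := by
  obtain ⟨s', rfl⟩ := (yon _).map_surjective s
  obtain ⟨t', rfl⟩ := (yon _).map_surjective t
  exact congrArg _ (Over.mkIdTerminal.hom_ext s' t')

variable {Y YK : Space (Spec (CommRingCat.of R))} {K : Type u} [CommRing K] [Algebra R K] {u : YK ⟶ Y}
  {v : YK.obj ⟶ (yon _).obj (specOver R K)} {πY : Y.obj ⟶ (yon (Spec (CommRingCat.of R))).obj (Over.mk (𝟙 _))}
  {j : specOver R K ⟶ Over.mk (𝟙 _)} (hp : IsPullback u.hom v πY ((yon _).map j))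

/-- The lift of a point to a piece. -/
noncomputable def liftPiece {T : Type u} [CommRing T] [Algebra R T] (ρ : K →ₐ[R] T)
    (y : (yon _).obj (specOver R T) ⟶ Y.obj) : (yon _).obj (specOver R T) ⟶ YK.obj :=
  hp.lift y ((yon _).map (specMap ρ)) (yon_id_ext _ _)

theorem liftPiece_fst {T : Type u} [CommRing T] [Algebra R T] (ρ : K →ₐ[R] T)
    (y : (yon _).obj (specOver R T) ⟶ Y.obj) : liftPiece hp ρ y ≫ u.hom = y := hp.lift_fst _ _ _

theorem liftPiece_snd {T : Type u} [CommRing T] [Algebra R T] (ρ : K →ₐ[R] T)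
    (y : (yon _).obj (specOver R T) ⟶ Y.obj) : liftPiece hp ρ y ≫ v = (yon _).map (specMap ρ) := hp.lift_snd _ _ _

theorem map_liftPiece {T T' : Type u} [CommRing T] [Algebra R T] [CommRing T'] [Algebra R T'] (α : T →ₐ[R] T')
    (ρ : K →ₐ[R] T) (y : (yon _).obj (specOver R T) ⟶ Y.obj) :
    (yon _).map (specMap α) ≫ liftPiece hp ρ y = liftPiece hp (α.comp ρ) ((yon _).map (specMap α) ≫ y) :=
  hp.hom_ext (by rw [Category.assoc, liftPiece_fst, liftPiece_fst])
    (by rw [Category.assoc, liftPiece_snd, liftPiece_snd, specMap_comp, (yon _).map_comp])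

theorem exists_eq_liftPiece {T : Type u} [CommRing T] [Algebra R T] (z : (yon _).obj (specOver R T) ⟶ YK.obj) :
    ∃ ρ : K →ₐ[R] T, z = liftPiece hp ρ (z ≫ u.hom) := by
  obtain ⟨g, hg⟩ := (yon _).map_surjective (z ≫ v)
  obtain ⟨ρ, rfl⟩ := exists_specMap_eq g
  exact ⟨ρ, hp.hom_ext (liftPiece_fst hp _ _).symm (by rw [liftPiece_snd]; exact hg.symm)⟩

end Groth.Agent.GlueHom25

namespace Groth.Agent.GlueHom25

variable {R : Type u} [CommRing R] {R' : Type u} [CommRing R'] [Algebra R R'] {f : R}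

/-- The localization map attached to an algebra in which `f` is a unit. -/
noncomputable def awayHom {T : Type u} [CommRing T] [Algebra R T] (hu : IsUnit (algebraMap R T f)) :
    Localization.Away f →ₐ[R] T :=
  { toRingHom := IsLocalization.Away.lift f hu, commutes' := fun r => IsLocalization.Away.lift_eq f hu r }

theorem eq_awayHom {T : Type u} [CommRing T] [Algebra R T] (hu : IsUnit (algebraMap R T f))
    (ρ : Localization.Away f →ₐ[R] T) : ρ = awayHom hu :=
  IsLocalization.algHom_ext (Submonoid.powers f) (by ext)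

variable {Y Z YU ZU YX ZX : Space (Spec (CommRingCat.of R))}
  {uY : YU ⟶ Y} {sY : YU.obj ⟶ (yon _).obj (specOver R (Localization.Away f))}
  {xY : YX ⟶ Y} {rY : YX.obj ⟶ (yon _).obj (specOver R R')}
  {πY : Y.obj ⟶ (yon (Spec (CommRingCat.of R))).obj (Over.mk (𝟙 _))}
  {inU : specOver R (Localization.Away f) ⟶ Over.mk (𝟙 _)} {inX : specOver R R' ⟶ Over.mk (𝟙 _)}

/-- The datum of a pair of morphisms. -/
noncomputable def datum (hU : IsPullback uY.hom sY πY ((yon _).map inU))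
    (hX : IsPullback xY.hom rY πY ((yon _).map inX)) (a : YU.obj ⟶ Z.obj) (b : YX.obj ⟶ Z.obj)
    (hab : ∀ (T : Type u) [CommRing T] [Algebra R T] (y₁ : (yon _).obj (specOver R T) ⟶ YU.obj)
      (y₂ : (yon _).obj (specOver R T) ⟶ YX.obj), y₁ ≫ uY.hom = y₂ ≫ xY.hom → y₁ ≫ a = y₂ ≫ b) :
    Datum R' f Y.obj Z.obj where
  F₁ T _ _ hu y := liftPiece hU (awayHom hu) y ≫ a
  F₂ T _ _ ρ y := liftPiece hX ρ y ≫ b
  nat₁ T T' _ _ _ _ α hu hu' y := by
    rw [← Category.assoc, map_liftPiece, eq_awayHom hu' (α.comp (awayHom hu))]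
  nat₂ T T' _ _ _ _ α ρ y := by rw [← Category.assoc, map_liftPiece]
  compat T _ _ hu ρ y := hab T _ _ ((liftPiece_fst hU _ _).trans (liftPiece_fst hX _ _).symm)

/-- Glueing morphisms along a glueing pair. -/
theorem existsUnique_hom (hRR' : EtGlue.IsGlueingPair R R' f)
    (hY : ∀ (A : Type u) [CommRing A] [Algebra R A] (g : (yon _).obj (specOver R A) ⟶ Y.obj),
      RepWith @Etale g → EtGlue.IsGlueable R R' f A)
    (hZd : IsAffineMor (Limits.diag Z.obj)) (hU : IsPullback uY.hom sY πY ((yon _).map inU))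
    (hX : IsPullback xY.hom rY πY ((yon _).map inX)) (a : YU.obj ⟶ Z.obj) (b : YX.obj ⟶ Z.obj)
    (hab : ∀ (T : Type u) [CommRing T] [Algebra R T] (y₁ : (yon _).obj (specOver R T) ⟶ YU.obj)
      (y₂ : (yon _).obj (specOver R T) ⟶ YX.obj), y₁ ≫ uY.hom = y₂ ≫ xY.hom → y₁ ≫ a = y₂ ≫ b) :
    ∃! φ : Y.obj ⟶ Z.obj, uY.hom ≫ φ = a ∧ xY.hom ≫ φ = b := by
  obtain ⟨φ, hφ⟩ := exists_hom hRR' hY hZd (datum hU hX a b hab)
  have key : ∀ {P : Space (Spec (CommRingCat.of R))} (l r : P.obj ⟶ Z.obj),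
      (∀ (T : Type u) [CommRing T] [Algebra R T] (z : (yon _).obj (specOver R T) ⟶ P.obj), z ≫ l = z ≫ r) →
        l = r := fun l r h => hom_ext_yon fun V z =>
    hom_ext_refine (fun _ : PUnit.{u+1} => V) (fun _ => 𝟙 V) (fun t => ⟨⟨⟩, t, rfl⟩) fun _ B _ _ e => by
      simpa using h B ((yon _).map e ≫ z)
  refine ⟨φ, ⟨key _ _ fun T _ _ z => ?_, key _ _ fun T _ _ z => ?_⟩, fun φ' h' => ?_⟩
  · obtain ⟨ρ, hρ⟩ := exists_eq_liftPiece hU z
    have hu : IsUnit (algebraMap R T f) := isUnit_of_algHom ρ (IsLocalization.Away.algebraMap_isUnit f)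
    rw [← Category.assoc, (hφ T _).1 hu]
    show liftPiece hU (awayHom hu) (z ≫ uY.hom) ≫ a = z ≫ a
    rw [← eq_awayHom hu ρ, ← hρ]
  · obtain ⟨ρ, hρ⟩ := exists_eq_liftPiece hX z
    rw [← Category.assoc, (hφ T _).2 ρ]
    show liftPiece hX ρ (z ≫ xY.hom) ≫ b = z ≫ b
    rw [← hρ]
  · refine eq_of_pieces hRR'.1 hY φ' φ fun T _ _ y hT => ?_
    rcases hT with hu | ⟨⟨ρ⟩⟩
    · rw [(hφ T y).1 hu]
      show y ≫ φ' = liftPiece hU (awayHom hu) y ≫ a
      rw [← h'.1, ← Category.assoc, liftPiece_fst]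
    · rw [(hφ T y).2 ρ]
      show y ≫ φ' = liftPiece hX ρ y ≫ b
      rw [← h'.2, ← Category.assoc, liftPiece_fst]

end Groth.Agent.GlueHom25
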