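import Groth.Agent.Lib.GlueHom25.Local
import Groth.Agent.Lib.AlgSpace.Atlas

/-!
# Existence of glued morphisms of algebraic spaces
-/

universe u

set_option backward.isDefEq.respectTransparency.types false

open CategoryTheory CategoryTheory.Limits AlgebraicGeometry TensorProduct
open AlgSp Groth.Agent.AlgSpace Groth.Agent.AlgSpDescent Groth.Agent.Glueable27 Groth.Agent.GluePair25

namespace Groth.Agent.GlueHom25

variable {R : Type u} [CommRing R] {R' : Type u} [CommRing R'] [Algebra R R'] {f : R}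

/-- Maps out of a scheme are determined on affine schemes refining an etale cover. -/
theorem hom_ext_refine {T : Over (Spec (CommRingCat.of R))} {ι : Type u}
    (X : ι → Over (Spec (CommRingCat.of R))) (g : ∀ k, X k ⟶ T) [∀ k, Etale (g k).left]
    (hsurj : ∀ t : T.left, ∃ k, t ∈ Set.range (g k).left) {F : Sp (Spec (CommRingCat.of R))}
    {c d : (yon _).obj T ⟶ F}
    (h : ∀ (k : ι) (B : Type u) [CommRing B] [Algebra R B] (e : specOver R B ⟶ X k),
      (yon _).map e ≫ (yon _).map (g k) ≫ c = (yon _).map e ≫ (yon _).map (g k) ≫ d) : c = d := by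
  refine hom_ext_etale X g hsurj fun k => ?_
  let ψ : ∀ O : (X k).left.affineOpens, R →+* Γ((X k).left, O.1) :=
    fun O => (Spec.preimage (O.2.fromSpec ≫ (X k).hom)).hom
  letI inst : ∀ O : (X k).left.affineOpens, Algebra R Γ((X k).left, O.1) := fun O => (ψ O).toAlgebra
  let e : ∀ O : (X k).left.affineOpens, specOver R Γ((X k).left, O.1) ⟶ X k := fun O => Over.homMk O.2.fromSpec (by
    change O.2.fromSpec ≫ (X k).hom = Spec.map (CommRingCat.ofHom (algebraMap R Γ((X k).left, O.1)))
    exact (Spec.map_preimage _).symm)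
  have : ∀ O : (X k).left.affineOpens, Etale (e O).left := fun O => inferInstanceAs (Etale O.2.fromSpec)
  refine hom_ext_etale (fun O : (X k).left.affineOpens => specOver R Γ((X k).left, O.1)) e (fun t => ?_)
    fun O => h k _ (e O)
  obtain ⟨_, ⟨U, hU, rfl⟩, htU, -⟩ :=
    (X k).left.isBasis_affineOpens.exists_subset_of_mem_open (Set.mem_univ t) isOpen_univ
  exact ⟨⟨U, hU⟩, hU.range_fromSpec.symm ▸ htU⟩

theorem isUnit_of_algHom {A B : Type u} [CommRing A] [CommRing B] [Algebra R A] [Algebra R B]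
    (α : A →ₐ[R] B) {r : R} (h : IsUnit (algebraMap R A r)) : IsUnit (algebraMap R B r) := by
  rw [← α.commutes]; exact h.map α

/-- The extension property can be checked after an etale cover. -/
theorem Compat.of_cover {Y Z : Sp (Spec (CommRingCat.of R))} {D : Datum R' f Y Z}
    {V : Over (Spec (CommRingCat.of R))} {ι : Type u} (X : ι → Over (Spec (CommRingCat.of R)))
    (g : ∀ k, X k ⟶ V) [∀ k, Etale (g k).left] (hsurj : ∀ t : V.left, ∃ k, t ∈ Set.range (g k).left)
    {v : (yon _).obj V ⟶ Y} {φ : (yon _).obj V ⟶ Z}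
    (h : ∀ k, Compat D ((yon _).map (g k) ≫ v) ((yon _).map (g k) ≫ φ)) : Compat D v φ := by
  intro T _ _ x
  have : ∀ k, Etale (pullback.snd (g k) x).left := fun k =>
    MorphismProperty.of_isPullback (P := @Etale)
      ((IsPullback.of_hasPullback (g k) x).map (Over.forget _)) (inferInstanceAs (Etale (g k).left))
  have hsurj' : ∀ t : (specOver R T).left, ∃ k, t ∈ Set.range (pullback.snd (g k) x).left := fun t => by
    obtain ⟨k, z, hz⟩ := hsurj (x.left t)
    have sq := (IsPullback.of_hasPullback (g k) x).map (Over.forget _)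
    obtain ⟨w, -, hw⟩ := Scheme.Pullback.exists_preimage_pullback (f := (g k).left) (g := x.left) z t hz
    refine ⟨k, sq.isoPullback.inv w, ?_⟩
    show (sq.isoPullback.inv ≫ (pullback.snd (g k) x).left) w = t
    rw [show sq.isoPullback.inv ≫ (pullback.snd (g k) x).left = _ from sq.isoPullback_inv_snd]
    exact hw
  constructor
  · intro hu
    refine hom_ext_refine (fun k => pullback (g k) x) (fun k => pullback.snd (g k) x) hsurj'
      fun k B _ _ e => ?_
    obtain ⟨α, hα⟩ := exists_specMap_eq (e ≫ pullback.snd (g k) x)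
    have key := (h k B (e ≫ pullback.fst (g k) x)).1 (isUnit_of_algHom α hu)
    simp only [Functor.map_comp, Category.assoc] at key
    have hα' : ∀ {F : Sp (Spec (CommRingCat.of R))} (z : (yon _).obj (specOver R T) ⟶ F),
        (yon _).map e ≫ (yon _).map (pullback.snd (g k) x) ≫ z = (yon _).map (specMap α) ≫ z := fun z => by
      rw [hα, (yon _).map_comp, Category.assoc]
    have hw : ∀ {F : Sp (Spec (CommRingCat.of R))} (z : (yon _).obj V ⟶ F),
        (yon _).map (specMap α) ≫ (yon _).map x ≫ z =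
          (yon _).map e ≫ (yon _).map (pullback.fst (g k) x) ≫ (yon _).map (g k) ≫ z := fun z => by
      rw [← hα', ← Category.assoc ((yon _).map (pullback.snd (g k) x)), ← (yon _).map_comp, ← pullback.condition,
        (yon _).map_comp, Category.assoc]
    rw [hα', hα', D.nat₁ _ _ α hu (isUnit_of_algHom α hu), hw, hw]
    exact key
  · intro ρ
    refine hom_ext_refine (fun k => pullback (g k) x) (fun k => pullback.snd (g k) x) hsurj'
      fun k B _ _ e => ?_
    obtain ⟨α, hα⟩ := exists_specMap_eq (e ≫ pullback.snd (g k) x)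
    have key := (h k B (e ≫ pullback.fst (g k) x)).2 (α.comp ρ)
    simp only [Functor.map_comp, Category.assoc] at key
    have hα' : ∀ {F : Sp (Spec (CommRingCat.of R))} (z : (yon _).obj (specOver R T) ⟶ F),
        (yon _).map e ≫ (yon _).map (pullback.snd (g k) x) ≫ z = (yon _).map (specMap α) ≫ z := fun z => by
      rw [hα, (yon _).map_comp, Category.assoc]
    have hw : ∀ {F : Sp (Spec (CommRingCat.of R))} (z : (yon _).obj V ⟶ F),
        (yon _).map (specMap α) ≫ (yon _).map x ≫ z =
          (yon _).map e ≫ (yon _).map (pullback.fst (g k) x) ≫ (yon _).map (g k) ≫ z := fun z => by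
      rw [← hα', ← Category.assoc ((yon _).map (pullback.snd (g k) x)), ← (yon _).map_comp, ← pullback.condition,
        (yon _).map_comp, Category.assoc]
    rw [hα', hα', D.nat₂ _ _ α ρ, hw, hw]
    exact key

variable {Y Z : Space (Spec (CommRingCat.of R))}

/-- Extensions glue along etale covers. -/
theorem exists_glue_family (hq : EtGlue.QuotPowBijective R R' f)
    (hY : ∀ (A : Type u) [CommRing A] [Algebra R A] (g : (yon _).obj (specOver R A) ⟶ Y.obj),
      RepWith @Etale g → EtGlue.IsGlueable R R' f A)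
    {D : Datum R' f Y.obj Z.obj} {V : Over (Spec (CommRingCat.of R))} {v : (yon _).obj V ⟶ Y.obj}
    (hv : RepWith @Etale v) {ι : Type u} (X : ι → Over (Spec (CommRingCat.of R))) (g : ∀ k, X k ⟶ V)
    [∀ k, Etale (g k).left] (hsurj : ∀ t : V.left, ∃ k, t ∈ Set.range (g k).left)
    (h : ∀ k, ∃ φ, Compat D ((yon _).map (g k) ≫ v) φ) : ∃ φ, Compat D v φ := by
  choose l hl using h
  let 𝒰 : Scheme.Cover.{u} Scheme.fppfPrecoverage.{u} V.left :=
    Scheme.Cover.mkOfCovers ι (fun k => (X k).left) (fun k => (g k).left)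
      (fun t => (hsurj t).imp fun k hk => hk) (fun k => ⟨inferInstance, inferInstance⟩)
  let ek : ∀ k : ι, Over.mk ((g k).left ≫ V.hom) ⟶ X k := fun k => Over.homMk (𝟙 _) (by simp)
  have he : ∀ k : ι, overArrow (𝒰.f k) = ek k ≫ g k := fun k => by
    ext
    exact (Category.id_comp _).symm
  obtain ⟨φ, hφ, -⟩ := existsUnique_glue_fppf 𝒰 (F := Z.obj) (fun k => (yon _).map (ek k) ≫ l k) (by
    intro (i : ι) (j : ι) W a b e
    rw [← Functor.map_comp_assoc, ← Functor.map_comp_assoc]
    have hij : (a ≫ ek i) ≫ g i = (b ≫ ek j) ≫ g j := by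
      exact (Category.assoc _ _ _).trans
        (((congrArg (a ≫ ·) (he i)).symm.trans (e.trans (congrArg (b ≫ ·) (he j)))).trans (Category.assoc _ _ _).symm)
    have : Etale (pullback.fst (g i) (g j)).left := MorphismProperty.of_isPullback (P := @Etale)
      ((IsPullback.of_hasPullback (g i) (g j)).map (Over.forget _)).flip (inferInstanceAs (Etale (g j).left))
    have hP := Compat.unique hq hY
      (repWith_comp ((repWith_yon_map_iff @Etale (pullback.fst (g i) (g j))).2 this)
        (repWith_comp ((repWith_yon_map_iff @Etale (g i)).2 inferInstance) hv))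
      ((hl i).comp (pullback.fst (g i) (g j)))
      (φ' := (yon _).map (pullback.snd (g i) (g j)) ≫ l j) (by
        have h2 := (hl j).comp (pullback.snd (g i) (g j))
        rwa [← Functor.map_comp_assoc, ← pullback.condition, Functor.map_comp_assoc] at h2)
    rw [← pullback.lift_fst _ _ hij, Functor.map_comp_assoc, hP, ← Functor.map_comp_assoc, pullback.lift_snd])
  refine ⟨φ, Compat.of_cover X g hsurj fun k => ?_⟩
  have hk : (yon _).map (g k) ≫ φ = l k := by
    have : IsIso (ek k) := by
      have : IsIso ((Over.forget _).map (ek k)) := inferInstanceAs (IsIso (𝟙 _))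
      exact isIso_of_reflects_iso _ (Over.forget _)
    have h1 := hφ k
    rw [he k] at h1
    refine (cancel_epi ((yon _).map (ek k))).1 ?_
    rw [← Category.assoc, ← (yon _).map_comp]
    exact h1
  rw [hk]
  exact hl k

theorem exists_extension_affine (hRR' : EtGlue.IsGlueingPair R R' f)
    (hY : ∀ (A : Type u) [CommRing A] [Algebra R A] (g : (yon _).obj (specOver R A) ⟶ Y.obj),
      RepWith @Etale g → EtGlue.IsGlueable R R' f A)
    (hZd : IsAffineMor (Limits.diag Z.obj)) (D : Datum R' f Y.obj Z.obj) {A : Type u} [CommRing A] [Algebra R A]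
    (q : (yon _).obj (specOver R A) ⟶ Y.obj) (hqe : RepWith @Etale q) : ∃ φ, Compat D q φ := by
  obtain ⟨ι, C, _, _, w, hw, hcov⟩ := exists_affine_cover (Y := Z)
  have key : ∀ x : PrimeSpectrum A, ∃ (B : Type u) (_ : CommRing B) (_ : Algebra R B) (α : A →ₐ[R] B),
      α.toRingHom.Etale ∧ x ∈ Set.range (PrimeSpectrum.comap α.toRingHom) ∧
      ∃ φ, Compat D ((yon _).map (specMap α) ≫ q) φ := by
    intro x
    by_cases hf : algebraMap R A f ∈ x.asIdeal
    · obtain ⟨ρ⟩ := exists_algHom_of_eq_zero (T := A ⧸ x.asIdeal) hRR'.1 (Ideal.Quotient.eq_zero_iff_mem.2 hf)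
      let ψ : R' ⊗[R] A →ₐ[R] A ⧸ x.asIdeal :=
        Algebra.TensorProduct.lift ρ (Ideal.Quotient.mkₐ R x.asIdeal) (fun _ _ => Commute.all _ _)
      let p : PrimeSpectrum (R' ⊗[R] A) := ⟨RingHom.ker ψ.toRingHom, RingHom.ker_isPrime _⟩
      have hp : PrimeSpectrum.comap (Algebra.TensorProduct.includeRight : A →ₐ[R] R' ⊗[R] A).toRingHom p = x :=
        PrimeSpectrum.ext (Ideal.ext fun a => by
          show ψ ((1 : R') ⊗ₜ[R] a) = 0 ↔ a ∈ x.asIdeal
          simp [ψ, Ideal.Quotient.eq_zero_iff_mem])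
      obtain ⟨k, hk⟩ := hcov (Points.ofPt (D.F₂ (R' ⊗[R] A) Algebra.TensorProduct.includeLeft
        ((yon _).map (specMap (Algebra.TensorProduct.includeRight : A →ₐ[R] R' ⊗[R] A)) ≫ q)) p)
      obtain ⟨B, _, _, α, hα, hφ, -, h2⟩ := exists_local_of_chart hRR' hY hZd D q hqe (w k) (hw k)
      exact ⟨B, inferInstance, inferInstance, α, hα, hp ▸ h2 p hk, hφ⟩
    · have hu : IsUnit (algebraMap R (Localization.Away (algebraMap R A f)) f) := by
        rw [IsScalarTower.algebraMap_apply R A (Localization.Away (algebraMap R A f))]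
        exact IsLocalization.Away.algebraMap_isUnit (algebraMap R A f)
      obtain ⟨p, hp⟩ : x ∈ Set.range (PrimeSpectrum.comap (algebraMap A (Localization.Away (algebraMap R A f)))) := by
        rw [PrimeSpectrum.localization_away_comap_range _ (algebraMap R A f)]
        exact hf
      obtain ⟨k, hk⟩ := hcov (Points.ofPt (D.F₁ _ hu
        ((yon _).map (specMap (IsScalarTower.toAlgHom R A _)) ≫ q)) p)
      obtain ⟨B, _, _, α, hα, hφ, h1, -⟩ := exists_local_of_chart hRR' hY hZd D q hqe (w k) (hw k)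
      exact ⟨B, inferInstance, inferInstance, α, hα, hp ▸ h1 hu p hk, hφ⟩
  choose B hB₁ hB₂ α hα hx hφ using key
  have : ∀ x, Etale (specMap (α x)).left := fun x => (HasRingHomProperty.Spec_iff (P := @Etale)).2 (hα x)
  exact exists_glue_family hRR'.1 hY hqe (fun x : PrimeSpectrum A => specOver R (B x)) (fun x => specMap (α x))
    (fun t => ⟨t, hx t⟩) hφ

/-- The datum extends to a morphism. -/
theorem exists_hom (hRR' : EtGlue.IsGlueingPair R R' f)
    (hY : ∀ (A : Type u) [CommRing A] [Algebra R A] (g : (yon _).obj (specOver R A) ⟶ Y.obj),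
      RepWith @Etale g → EtGlue.IsGlueable R R' f A)
    (hZd : IsAffineMor (Limits.diag Z.obj)) (D : Datum R' f Y.obj Z.obj) :
    ∃ φ : Y.obj ⟶ Z.obj, ∀ (T : Type u) [CommRing T] [Algebra R T] (y : (yon _).obj (specOver R T) ⟶ Y.obj),
      (∀ hu, y ≫ φ = D.F₁ T hu y) ∧ (∀ ρ, y ≫ φ = D.F₂ T ρ y) := by
  obtain ⟨U, p, hpe, hps⟩ := Y.property.atlas
  obtain ⟨φU, hφU⟩ : ∃ φ, Compat D p φ := by
    let ψ : ∀ O : U.left.affineOpens, R →+* Γ(U.left, O.1) := fun O => (Spec.preimage (O.2.fromSpec ≫ U.hom)).hom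
    letI inst : ∀ O : U.left.affineOpens, Algebra R Γ(U.left, O.1) := fun O => (ψ O).toAlgebra
    let c : ∀ O : U.left.affineOpens, specOver R Γ(U.left, O.1) ⟶ U := fun O => Over.homMk O.2.fromSpec (by
      change O.2.fromSpec ≫ U.hom = Spec.map (CommRingCat.ofHom (algebraMap R Γ(U.left, O.1)))
      exact (Spec.map_preimage _).symm)
    have : ∀ O : U.left.affineOpens, Etale (c O).left := fun O => inferInstanceAs (Etale O.2.fromSpec)
    refine exists_glue_family hRR'.1 hY hpe (fun O : U.left.affineOpens => specOver R Γ(U.left, O.1)) c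
      (fun t => ?_) fun O => exists_extension_affine hRR' hY hZd D _
        (repWith_comp ((repWith_yon_map_iff @Etale _).2 (this O)) hpe)
    obtain ⟨_, ⟨V, hV, rfl⟩, htV, -⟩ :=
      U.left.isBasis_affineOpens.exists_subset_of_mem_open (Set.mem_univ t) isOpen_univ
    exact ⟨⟨V, hV⟩, hV.range_fromSpec.symm ▸ htV⟩
  obtain ⟨Q, t, s, sq⟩ := representable_diag_iff.1 Y.property.diag p p
  have hte : Etale t.left := hpe.2 p _ _ sq.flip
  have hts : (yon _).map t ≫ φU = (yon _).map s ≫ φU :=
    Compat.unique hRR'.1 hY (repWith_comp ((repWith_yon_map_iff @Etale t).2 hte) hpe) (hφU.comp t)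
      (by rw [sq.w]; exact hφU.comp s)
  have := isLocallySurjective_of_etale hpe hps
  have : Epi p := Sheaf.epi_of_isLocallySurjective' _
  obtain ⟨hc⟩ := nonempty_isColimit_cofork p sq
  obtain ⟨φ, hφ⟩ := Cofork.IsColimit.desc' hc φU hts
  have hpφ : p ≫ φ = φU := hφ
  refine ⟨φ, fun T _ _ y => ?_⟩
  have sqy := hpe.1.isPullback y
  have : Etale (hpe.1.snd y).left := hpe.2 y _ _ sqy
  have : Surjective (hpe.1.snd y).left := hps.2 y _ _ sqy
  have hsurj : ∀ t : (specOver R T).left, ∃ _ : PUnit.{u+1}, t ∈ Set.range (hpe.1.snd y).left :=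
    fun t => ⟨⟨⟩, (hpe.1.snd y).left.surjective t⟩
  have hstep : ∀ (B : Type u) [CommRing B] [Algebra R B] (e : specOver R B ⟶ hpe.1.pullback y),
      ∃ (x : specOver R B ⟶ U) (α : T →ₐ[R] B), specMap α = e ≫ hpe.1.snd y ∧
        (yon _).map x ≫ p = (yon _).map (specMap α) ≫ y := by
    intro B _ _ e
    obtain ⟨x, hx⟩ := (yon _).map_surjective (hpe.1.fst y)
    obtain ⟨α, hα⟩ := exists_specMap_eq (e ≫ hpe.1.snd y)
    refine ⟨e ≫ x, α, hα, ?_⟩
    rw [hα, (yon _).map_comp, (yon _).map_comp, hx, Category.assoc, Category.assoc, sqy.w]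
  constructor
  · intro hu
    refine hom_ext_refine (fun _ : PUnit.{u+1} => hpe.1.pullback y) (fun _ => hpe.1.snd y) hsurj
      fun _ B _ _ e => ?_
    obtain ⟨x, α, hα, hx⟩ := hstep B e
    rw [← Functor.map_comp_assoc, ← Functor.map_comp_assoc, ← hα, D.nat₁ _ _ α hu (isUnit_of_algHom α hu),
      ← reassoc_of% hx, hpφ, (hφU B x).1 (isUnit_of_algHom α hu), hx]
  · intro ρ
    refine hom_ext_refine (fun _ : PUnit.{u+1} => hpe.1.pullback y) (fun _ => hpe.1.snd y) hsurj
      fun _ B _ _ e => ?_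
    obtain ⟨x, α, hα, hx⟩ := hstep B e
    rw [← Functor.map_comp_assoc, ← Functor.map_comp_assoc, ← hα, D.nat₂ _ _ α ρ,
      ← reassoc_of% hx, hpφ, (hφU B x).2 (α.comp ρ), hx]

end Groth.Agent.GlueHom25
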