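import Groth.Agent.Lib.GlueHom25.Algebra
import Groth.Agent.Lib.GlueHom25.Basic

/-!
# Local existence of glued morphisms
-/

universe u

set_option backward.isDefEq.respectTransparency.types false

open CategoryTheory CategoryTheory.Limits AlgebraicGeometry TensorProduct
open AlgSp Groth.Agent.AlgSpace Groth.Agent.AlgSpDescent Groth.Agent.Glueable27 Groth.Agent.GluePair25

namespace Groth.Agent.GlueHom25

variable {R : Type u} [CommRing R] {R' : Type u} [CommRing R'] [Algebra R R'] {f : R}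

theorem exists_lift_of_sq {Z : Sp (Spec (CommRingCat.of R))} {A B C T : Type u} [CommRing A] [CommRing B]
    [CommRing C] [CommRing T] [Algebra R A] [Algebra R B] [Algebra R C] [Algebra R T]
    {α : A →ₐ[R] B} {γ : C →ₐ[R] B} {w : (yon _).obj (specOver R C) ⟶ Z} {c : (yon _).obj (specOver R A) ⟶ Z}
    (sq : IsPullback ((yon _).map (specMap γ)) ((yon _).map (specMap α)) w c) (β : A →ₐ[R] T) (δ : C →ₐ[R] T)
    (h : (yon _).map (specMap δ) ≫ w = (yon _).map (specMap β) ≫ c) :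
    ∃! ε : B →ₐ[R] T, ε.comp α = β ∧ ε.comp γ = δ := by
  obtain ⟨l, hl⟩ := (yon _).map_surjective (sq.lift _ _ h)
  obtain ⟨ε, rfl⟩ := exists_specMap_eq l
  refine ⟨ε, ⟨?_, ?_⟩, fun ε' hε => ?_⟩
  · apply specMap_injective; apply (yon _).map_injective
    rw [specMap_comp, (yon _).map_comp, hl, sq.lift_snd]
  · apply specMap_injective; apply (yon _).map_injective
    rw [specMap_comp, (yon _).map_comp, hl, sq.lift_fst]
  · apply specMap_injective; apply (yon _).map_injective
    rw [hl]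
    refine sq.hom_ext ?_ ?_
    · rw [sq.lift_fst, ← (yon _).map_comp, ← specMap_comp, hε.2]
    · rw [sq.lift_snd, ← (yon _).map_comp, ← specMap_comp, hε.1]

theorem exists_away_lift {K A T : Type u} [CommRing K] [CommRing A] [CommRing T] [Algebra K A] [Algebra K T] (g : A)
    (ψ : A →ₐ[K] T) (hu : IsUnit (ψ g)) :
    ∃ l : Localization.Away g →ₐ[K] T, l.comp (IsScalarTower.toAlgHom K A (Localization.Away g)) = ψ :=
  ⟨{ toRingHom := IsLocalization.Away.lift g (g := ψ.toRingHom) hu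
     commutes' := fun r => by
       show IsLocalization.Away.lift g (g := ψ.toRingHom) hu (algebraMap K (Localization.Away g) r) = _
       rw [IsScalarTower.algebraMap_apply K A (Localization.Away g), IsLocalization.Away.lift_eq]
       exact ψ.commutes r },
    AlgHom.ext fun a => IsLocalization.Away.lift_eq g (g := ψ.toRingHom) hu a⟩

set_option maxHeartbeats 1000000 in
/-- The two fibre products agree on the overlap. -/
theorem exists_glue_iso {Z : Sp (Spec (CommRingCat.of R))} {A S' B₁ B' C : Type u} [CommRing A] [CommRing S']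
    [CommRing B₁] [CommRing B'] [CommRing C] [Algebra R A] [Algebra R S'] [Algebra R B₁] [Algebra R B'] [Algebra R C]
    [Algebra A S'] [IsScalarTower R A S'] (g : A)
    [Algebra A B₁] [Algebra (Localization.Away g) B₁] [IsScalarTower A (Localization.Away g) B₁]
    [IsScalarTower R (Localization.Away g) B₁] [IsScalarTower R A B₁]
    [Algebra A B'] [Algebra S' B'] [IsScalarTower A S' B'] [IsScalarTower R S' B'] [IsScalarTower R A B']
    {c₁ : (yon _).obj (specOver R (Localization.Away g)) ⟶ Z} {c₂ : (yon _).obj (specOver R S') ⟶ Z}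
    {w : (yon _).obj (specOver R C) ⟶ Z} {γ₁ : C →ₐ[R] B₁} {γ₂ : C →ₐ[R] B'}
    (hF : ∀ (T : Type u) [CommRing T] [Algebra R T] (a₁ : Localization.Away g →ₐ[R] T) (a' : S' →ₐ[R] T),
      a₁.comp (IsScalarTower.toAlgHom R A (Localization.Away g)) = a'.comp (IsScalarTower.toAlgHom R A S') →
        (yon _).map (specMap a₁) ≫ c₁ = (yon _).map (specMap a') ≫ c₂)
    (sq₁ : IsPullback ((yon _).map (specMap γ₁)) ((yon _).map (specMap (IsScalarTower.toAlgHom R (Localization.Away g) B₁))) w c₁)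
    (sq₂ : IsPullback ((yon _).map (specMap γ₂)) ((yon _).map (specMap (IsScalarTower.toAlgHom R S' B'))) w c₂) :
    ∃ φ : Localization.Away (algebraMap A B' g) ≃ₐ[S'] S' ⊗[A] B₁,
      ∀ c, φ (algebraMap B' _ (γ₂ c)) = (1 : S') ⊗ₜ[A] γ₁ c := by
  let loc : A →ₐ[R] Localization.Away g := IsScalarTower.toAlgHom R A _
  let inc : A →ₐ[R] S' := IsScalarTower.toAlgHom R A S'
  let α₁ : Localization.Away g →ₐ[R] B₁ := IsScalarTower.toAlgHom R _ B₁
  let α₂ : S' →ₐ[R] B' := IsScalarTower.toAlgHom R S' B'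
  have hA₁ : ∀ a, α₁ (loc a) = algebraMap A B₁ a := fun a => (IsScalarTower.algebraMap_apply A _ B₁ a).symm
  have hA₂ : ∀ a, α₂ (inc a) = algebraMap A B' a := fun a => (IsScalarTower.algebraMap_apply A S' B' a).symm
  let L₁ := S' ⊗[A] B₁
  let L₂ := Localization.Away (algebraMap A B' g)
  let a' : S' →ₐ[R] L₁ := Algebra.TensorProduct.includeLeft
  let b₁ : B₁ →ₐ[R] L₁ := (Algebra.TensorProduct.includeRight : B₁ →ₐ[A] L₁).restrictScalars R
  let toL₂ : B' →ₐ[R] L₂ := IsScalarTower.toAlgHom R B' L₂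
  have hab : (b₁.comp α₁).comp loc = a'.comp inc := AlgHom.ext fun a => by
    show (1 : S') ⊗ₜ[A] (α₁ (loc a)) = (inc a) ⊗ₜ[A] (1 : B₁)
    rw [hA₁, show inc a = algebraMap A S' a from rfl]
    rw [Algebra.algebraMap_eq_smul_one a, Algebra.algebraMap_eq_smul_one a, TensorProduct.smul_tmul]
  obtain ⟨uh, ⟨huα, huγ⟩, -⟩ := exists_lift_of_sq sq₂ a' (b₁.comp γ₁) (by
    rw [← hF L₁ (b₁.comp α₁) a' hab, yon_specMap_comp, yon_specMap_comp, sq₁.w])
  have hug₂ : IsUnit (uh.toRingHom (algebraMap A B' g)) := by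
    rw [← hA₂, show uh.toRingHom (α₂ (inc g)) = (b₁.comp α₁) (loc g) from
      (AlgHom.congr_fun huα (inc g)).trans (AlgHom.congr_fun hab g).symm]
    exact (IsLocalization.Away.algebraMap_isUnit g).map _
  obtain ⟨u', hu'0⟩ := exists_away_lift (K := S') (algebraMap A B' g)
    (⟨uh.toRingHom, fun r => AlgHom.congr_fun huα r⟩ : B' →ₐ[S'] L₁) hug₂
  have hu' : ∀ b, u' (toL₂ b) = uh b := fun b => AlgHom.congr_fun hu'0 b
  have hgL : IsUnit ((toL₂.comp (α₂.comp inc)) g) := by
    rw [AlgHom.comp_apply, AlgHom.comp_apply, hA₂]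
    exact IsLocalization.Away.algebraMap_isUnit (algebraMap A B' g)
  obtain ⟨locL, hlocL0⟩ := exists_away_lift (K := R) g (toL₂.comp (α₂.comp inc)) hgL
  have hlocL : locL.comp loc = (toL₂.comp α₂).comp inc := hlocL0.trans (AlgHom.comp_assoc _ _ _).symm
  obtain ⟨w₁, ⟨hwα, hwγ⟩, -⟩ := exists_lift_of_sq sq₁ locL (toL₂.comp γ₂) (by
    rw [hF L₂ locL (toL₂.comp α₂) hlocL, yon_specMap_comp, yon_specMap_comp, sq₂.w])
  let w₁A : B₁ →ₐ[A] L₂ :=
    { toRingHom := w₁.toRingHom
      commutes' := fun a => by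
        show w₁ (algebraMap A B₁ a) = algebraMap A L₂ a
        rw [← hA₁, ← AlgHom.comp_apply w₁ α₁, hwα, ← AlgHom.comp_apply locL loc, hlocL,
          IsScalarTower.algebraMap_apply A B' L₂]
        exact congrArg (algebraMap B' L₂) (hA₂ a) }
  let v : L₁ →ₐ[S'] L₂ :=
    Algebra.TensorProduct.lift (Algebra.ofId S' L₂) w₁A (fun _ _ => Commute.all _ _)
  have hv1 : ∀ b, v (b₁ b) = w₁ b := fun b => by
    show v ((1 : S') ⊗ₜ[A] b) = w₁A b
    rw [Algebra.TensorProduct.lift_tmul, map_one, one_mul]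
  have hv2 : ∀ a, v (a' a) = toL₂ (α₂ a) := fun a =>
    (v.commutes a).trans (IsScalarTower.algebraMap_apply S' B' L₂ a)
  have huv : u'.comp v = AlgHom.id S' L₁ := by
    have key : (u'.restrictScalars R).comp w₁ = b₁ := by
      refine (exists_lift_of_sq sq₁ (b₁.comp α₁) (b₁.comp γ₁)
        (by rw [yon_specMap_comp, yon_specMap_comp, sq₁.w])).unique ⟨?_, ?_⟩ ⟨rfl, rfl⟩
      · refine IsLocalization.algHom_ext (Submonoid.powers g) ?_
        refine AlgHom.ext fun a => ?_
        show u' (w₁ (α₁ (loc a))) = (b₁.comp α₁) (loc a)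
        rw [← AlgHom.comp_apply w₁ α₁, hwα, ← AlgHom.comp_apply locL loc, hlocL]
        exact (hu' _).trans ((AlgHom.congr_fun huα (inc a)).trans (AlgHom.congr_fun hab a).symm)
      · rw [AlgHom.comp_assoc, hwγ]
        refine AlgHom.ext fun c => ?_
        exact (hu' _).trans (AlgHom.congr_fun huγ c)
    refine Algebra.TensorProduct.ext' fun a b => ?_
    show u' (v (a ⊗ₜ[A] b)) = a ⊗ₜ[A] b
    rw [Algebra.TensorProduct.lift_tmul, map_mul, Algebra.ofId_apply, AlgHom.commutes,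
      show u' (w₁A b) = b₁ b from AlgHom.congr_fun key b]
    simp [L₁, b₁, Algebra.TensorProduct.algebraMap_apply]
  have hvu : v.comp u' = AlgHom.id S' L₂ := by
    have key : (v.restrictScalars R).comp uh = toL₂ := by
      refine (exists_lift_of_sq sq₂ (toL₂.comp α₂) (toL₂.comp γ₂)
        (by rw [yon_specMap_comp, yon_specMap_comp, sq₂.w])).unique ⟨?_, ?_⟩ ⟨rfl, rfl⟩
      · rw [AlgHom.comp_assoc, huα]; exact AlgHom.ext hv2
      · rw [AlgHom.comp_assoc, huγ]
        exact AlgHom.ext fun c => (hv1 _).trans (AlgHom.congr_fun hwγ c)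
    refine AlgHom.coe_ringHom_injective (IsLocalization.ringHom_ext (Submonoid.powers (algebraMap A B' g))
      (RingHom.ext fun b => ?_))
    show v (u' (toL₂ b)) = toL₂ b
    rw [hu']
    exact AlgHom.congr_fun key b
  exact ⟨AlgEquiv.ofAlgHom u' v huv hvu, fun c => (hu' (γ₂ c)).trans (AlgHom.congr_fun huγ c)⟩

set_option maxHeartbeats 1000000 in
/-- The glued map extends the datum. -/
theorem compat_glue {Y Z : Sp (Spec (CommRingCat.of R))} (D : Datum R' f Y Z) {A B B₁ B' C : Type u} [CommRing A]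
    [CommRing B] [CommRing B₁] [CommRing B'] [CommRing C] [Algebra R A] [Algebra R B] [Algebra R B₁] [Algebra R B']
    [Algebra R C] [Algebra A B] [IsScalarTower R A B]
    (q : (yon _).obj (specOver R A) ⟶ Y) (hug : IsUnit (algebraMap R (Localization.Away (algebraMap R A f)) f))
    {w : (yon _).obj (specOver R C) ⟶ Z} {α₁ : Localization.Away (algebraMap R A f) →ₐ[R] B₁} {γ₁ : C →ₐ[R] B₁}
    {α₂ : R' ⊗[R] A →ₐ[R] B'} {γ₂ : C →ₐ[R] B'}
    (sq₁ : IsPullback ((yon _).map (specMap γ₁)) ((yon _).map (specMap α₁)) w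
      (D.F₁ _ hug ((yon _).map (specMap (IsScalarTower.toAlgHom R A _)) ≫ q)))
    (sq₂ : IsPullback ((yon _).map (specMap γ₂)) ((yon _).map (specMap α₂)) w
      (D.F₂ (R' ⊗[R] A) Algebra.TensorProduct.includeLeft
        ((yon _).map (specMap (Algebra.TensorProduct.includeRight : A →ₐ[R] R' ⊗[R] A)) ≫ q)))
    {q₁ : B →ₐ[R] B'} {q₂ : B →ₐ[R] B₁}
    (hloc : letI := q₂.toRingHom.toAlgebra; IsLocalization.Away (algebraMap R B f) B₁)
    (hq₂ : ∀ a, q₂ (algebraMap A B a) = α₁ (algebraMap A _ a))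
    (hext : ∀ (T : Type u) [CommRing T] [Algebra R T] (α : B →ₐ[R] T) (β : R' ⊗[R] A →ₐ[R] T),
      (∀ a, β ((1 : R') ⊗ₜ[R] a) = α (algebraMap A B a)) →
        ∃ a₂ : B' →ₐ[R] T, a₂.comp q₁ = α ∧ a₂.comp α₂ = β)
    {δ : C →ₐ[R] B} (hδ₁ : q₁.comp δ = γ₂) (hδ₂ : q₂.comp δ = γ₁) :
    Compat D ((yon _).map (specMap (IsScalarTower.toAlgHom R A B)) ≫ q) ((yon _).map (specMap δ) ≫ w) := by
  intro T _ _ x
  obtain ⟨α, rfl⟩ := exists_specMap_eq x
  rw [← yon_specMap_comp, ← yon_specMap_comp]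
  constructor
  · intro hu
    letI := q₂.toRingHom.toAlgebra
    haveI := hloc
    have hgu : IsUnit (α.toRingHom (algebraMap R B f)) := by
      show IsUnit (α (algebraMap R B f))
      rw [α.commutes]
      exact hu
    let a₁ : B₁ →ₐ[R] T :=
      { toRingHom := IsLocalization.Away.lift (algebraMap R B f) hgu
        commutes' := fun r => by
          show IsLocalization.Away.lift (algebraMap R B f) hgu (algebraMap R B₁ r) = _
          rw [← q₂.commutes r]
          exact (IsLocalization.Away.lift_eq _ hgu _).trans (α.commutes r) }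
    have ha₁ : ∀ b, a₁ (q₂ b) = α b := fun b => IsLocalization.Away.lift_eq _ hgu b
    have h1 : α.comp δ = a₁.comp γ₁ := AlgHom.ext fun c =>
      ((congrArg a₁ (AlgHom.congr_fun hδ₂ c)).symm.trans (ha₁ _)).symm
    have h2 : α.comp (IsScalarTower.toAlgHom R A B) = (a₁.comp α₁).comp (IsScalarTower.toAlgHom R A _) :=
      AlgHom.ext fun a => ((congrArg a₁ (hq₂ a)).symm.trans (ha₁ _)).symm
    rw [h1, h2, yon_specMap_comp, sq₁.w, ← yon_specMap_comp, D.nat₁ _ _ _ hug hu, ← yon_specMap_comp]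
  · intro ρ
    let β : R' ⊗[R] A →ₐ[R] T :=
      Algebra.TensorProduct.lift ρ (α.comp (IsScalarTower.toAlgHom R A B)) (fun _ _ => Commute.all _ _)
    obtain ⟨a₂, ha₂, h2⟩ := hext T α β (fun a => by simp [β])
    have h1 : α.comp δ = a₂.comp γ₂ := by rw [← hδ₁, ← AlgHom.comp_assoc, ha₂]
    rw [h1, yon_specMap_comp, sq₂.w, ← yon_specMap_comp, h2, D.nat₂, ← yon_specMap_comp,
      Algebra.TensorProduct.lift_comp_includeLeft]
    rw [show β.comp Algebra.TensorProduct.includeRight = α.comp (IsScalarTower.toAlgHom R A B) from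
      AlgHom.ext fun a => by simp [β]]

/-- Maps out of the completed part of a glued algebra. -/
theorem exists_extend {A S' B B' T : Type u} [CommRing A] [CommRing S'] [CommRing B] [CommRing B'] [CommRing T]
    [Algebra A S'] [Algebra A B] [Algebra A B'] [Algebra S' B'] [IsScalarTower A S' B'] {q₁ : B →ₐ[A] B'}
    (hbij : Function.Bijective (Algebra.TensorProduct.lift (Algebra.ofId S' B') q₁ (fun _ _ => Commute.all _ _)))
    (α : B →+* T) (β : S' →+* T) (h : ∀ a, β (algebraMap A S' a) = α (algebraMap A B a)) :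
    ∃ a₂ : B' →+* T, (∀ b, a₂ (q₁ b) = α b) ∧ ∀ s, a₂ (algebraMap S' B' s) = β s := by
  letI : Algebra A T := (α.comp (algebraMap A B)).toAlgebra
  let βA : S' →ₐ[A] T := ⟨β, h⟩
  let αA : B →ₐ[A] T := ⟨α, fun a => rfl⟩
  let e := AlgEquiv.ofBijective _ hbij
  let T₀ : S' ⊗[A] B →ₐ[A] T := Algebra.TensorProduct.lift βA αA (fun _ _ => Commute.all _ _)
  refine ⟨T₀.toRingHom.comp e.symm.toRingEquiv.toRingHom, fun b => ?_, fun s => ?_⟩
  · have : e.symm (q₁ b) = (1 : S') ⊗ₜ[A] b := by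
      rw [AlgEquiv.symm_apply_eq]
      simp [e]
    show T₀ (e.symm (q₁ b)) = α b
    rw [this]
    simp [T₀, αA, βA]
  · show T₀ (e.symm (algebraMap S' B' s)) = β s
    rw [e.symm.commutes, Algebra.TensorProduct.algebraMap_apply, Algebra.algebraMap_self_apply]
    simp [T₀, αA, βA]

set_option maxHeartbeats 1000000 in
theorem exists_local_of_chart (hRR' : EtGlue.IsGlueingPair R R' f) {Y Z : Space (Spec (CommRingCat.of R))}
    (hY : ∀ (A : Type u) [CommRing A] [Algebra R A] (g : (yon _).obj (specOver R A) ⟶ Y.obj),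
      RepWith @Etale g → EtGlue.IsGlueable R R' f A)
    (hZd : IsAffineMor (Limits.diag Z.obj)) (D : Datum R' f Y.obj Z.obj) {A : Type u} [CommRing A] [Algebra R A]
    (q : (yon _).obj (specOver R A) ⟶ Y.obj) (hqe : RepWith @Etale q) {C : Type u} [CommRing C] [Algebra R C]
    (w : (yon _).obj (specOver R C) ⟶ Z.obj) (hw : RepWith @Etale w) :
    ∃ (B : Type u) (_ : CommRing B) (_ : Algebra R B) (α : A →ₐ[R] B), α.toRingHom.Etale ∧
      (∃ φ : (yon _).obj (specOver R B) ⟶ Z.obj, Compat D ((yon _).map (specMap α) ≫ q) φ) ∧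
      (∀ (hu : IsUnit (algebraMap R (Localization.Away (algebraMap R A f)) f))
        (p : PrimeSpectrum (Localization.Away (algebraMap R A f))),
        Points.ofPt (D.F₁ _ hu ((yon _).map (specMap (IsScalarTower.toAlgHom R A _)) ≫ q)) p ∈
            Set.range (Points.map w) →
          PrimeSpectrum.comap (algebraMap A (Localization.Away (algebraMap R A f))) p ∈
            Set.range (PrimeSpectrum.comap α.toRingHom)) ∧
      (∀ p : PrimeSpectrum (R' ⊗[R] A),
        Points.ofPt (D.F₂ (R' ⊗[R] A) Algebra.TensorProduct.includeLeft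
          ((yon _).map (specMap (Algebra.TensorProduct.includeRight : A →ₐ[R] R' ⊗[R] A)) ≫ q)) p ∈ Set.range (Points.map w) →
          PrimeSpectrum.comap (Algebra.TensorProduct.includeRight : A →ₐ[R] R' ⊗[R] A).toRingHom p ∈
            Set.range (PrimeSpectrum.comap α.toRingHom)) := by
  let g : A := algebraMap R A f
  letI : Algebra A (R' ⊗[R] A) := Algebra.TensorProduct.rightAlgebra
  haveI : IsScalarTower R A (R' ⊗[R] A) := IsScalarTower.of_algebraMap_eq fun r =>
    ((Algebra.TensorProduct.includeRight : A →ₐ[R] R' ⊗[R] A).commutes r).symm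
  have hp := Groth.Agent.GlueH7.isGlueingPair_baseChange hRR' A (hY A q hqe)
  let loc : A →ₐ[R] Localization.Away g := IsScalarTower.toAlgHom R A _
  let inc : A →ₐ[R] R' ⊗[R] A := Algebra.TensorProduct.includeRight
  have hug : IsUnit (algebraMap R (Localization.Away g) f) := by
    rw [IsScalarTower.algebraMap_apply R A (Localization.Away g)]
    exact IsLocalization.Away.algebraMap_isUnit g
  let c₁ := D.F₁ _ hug ((yon _).map (specMap loc) ≫ q)
  let c₂ := D.F₂ _ Algebra.TensorProduct.includeLeft ((yon _).map (specMap inc) ≫ q)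
  have hF : ∀ (T : Type u) [CommRing T] [Algebra R T] (a₁ : Localization.Away g →ₐ[R] T) (a' : R' ⊗[R] A →ₐ[R] T),
      a₁.comp loc = a'.comp inc → (yon _).map (specMap a₁) ≫ c₁ = (yon _).map (specMap a') ≫ c₂ := by
    intro T _ _ a₁ a' h
    have hu : IsUnit (algebraMap R T f) := by rw [← a₁.commutes]; exact hug.map a₁
    rw [D.nat₁ _ _ a₁ hug hu, D.nat₂, D.compat T hu (a'.comp Algebra.TensorProduct.includeLeft),
      ← yon_specMap_comp, ← yon_specMap_comp, h]
  obtain ⟨B₁, _, _, α₁, γ₁, hα₁, sq₁⟩ := exists_spec_pullback hZd c₁ w hw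
  obtain ⟨B', _, _, α₂, γ₂, hα₂, sq₂⟩ := exists_spec_pullback hZd c₂ w hw
  letI : Algebra (Localization.Away g) B₁ := α₁.toRingHom.toAlgebra
  letI : Algebra A B₁ := (α₁.comp loc).toRingHom.toAlgebra
  haveI : IsScalarTower A (Localization.Away g) B₁ := IsScalarTower.of_algebraMap_eq fun _ => rfl
  haveI : IsScalarTower R A B₁ := IsScalarTower.of_algebraMap_eq fun r => ((α₁.comp loc).commutes r).symm
  haveI : Algebra.Etale (Localization.Away g) B₁ := RingHom.etale_algebraMap.1 hα₁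
  letI : Algebra (R' ⊗[R] A) B' := α₂.toRingHom.toAlgebra
  letI : Algebra A B' := (α₂.comp inc).toRingHom.toAlgebra
  haveI : IsScalarTower A (R' ⊗[R] A) B' := IsScalarTower.of_algebraMap_eq fun _ => rfl
  haveI : IsScalarTower R A B' := IsScalarTower.of_algebraMap_eq fun r => ((α₂.comp inc).commutes r).symm
  haveI : IsScalarTower R (R' ⊗[R] A) B' := IsScalarTower.of_algebraMap_eq fun r => (α₂.commutes r).symm
  haveI : Algebra.Etale (R' ⊗[R] A) B' := RingHom.etale_algebraMap.1 hα₂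
  haveI : IsScalarTower R (Localization.Away g) B₁ := IsScalarTower.of_algebraMap_eq fun r => (α₁.commutes r).symm
  have e₁ : IsScalarTower.toAlgHom R (Localization.Away g) B₁ = α₁ := AlgHom.ext fun _ => rfl
  have e₂ : IsScalarTower.toAlgHom R (R' ⊗[R] A) B' = α₂ := AlgHom.ext fun _ => rfl
  have einc : IsScalarTower.toAlgHom R A (R' ⊗[R] A) = inc := AlgHom.ext fun _ => rfl
  obtain ⟨φ, hφ⟩ := exists_glue_iso (γ₁ := γ₁) (γ₂ := γ₂) (w := w) g
    (fun T _ _ a₁ a' h => hF T a₁ a' (by rw [h, einc])) (e₁.symm ▸ sq₁) (e₂.symm ▸ sq₂)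
  obtain ⟨B, _, _, q₁, q₂, hBe, hloc, hbij, hinj, hδ⟩ := exists_glue_algebra hp B₁ B' φ
  letI : Algebra R B := Algebra.compHom B (algebraMap R A)
  haveI : IsScalarTower R A B := IsScalarTower.of_algebraMap_eq fun _ => rfl
  obtain ⟨δ₀, hδ₁, hδ₂⟩ := hδ C γ₂.toRingHom γ₁.toRingHom fun c => hφ c
  let δ : C →ₐ[R] B := ⟨δ₀, fun r => hinj _ _
    ((RingHom.congr_fun hδ₁ (algebraMap R C r)).trans ((γ₂.commutes r).trans
      ((q₁.restrictScalars R).commutes r).symm))
    ((RingHom.congr_fun hδ₂ (algebraMap R C r)).trans ((γ₁.commutes r).trans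
      ((q₂.restrictScalars R).commutes r).symm))⟩
  let αB : A →ₐ[R] B := IsScalarTower.toAlgHom R A B
  have hgB : algebraMap R B f = algebraMap A B g := IsScalarTower.algebraMap_apply R A B f
  refine ⟨B, inferInstance, inferInstance, αB, RingHom.etale_algebraMap.2 hBe,
    ⟨(yon _).map (specMap δ) ≫ w, compat_glue D q hug sq₁ sq₂ (q₁ := q₁.restrictScalars R)
      (q₂ := q₂.restrictScalars R) (by rw [hgB]; exact hloc) (fun a => q₂.commutes a)
      (fun T _ _ α β h => ?_) (AlgHom.coe_ringHom_injective hδ₁) (AlgHom.coe_ringHom_injective hδ₂)⟩,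
    fun hu p hk => ?_, fun p hk => ?_⟩
  · obtain ⟨a₂, ha₁, ha₂⟩ := exists_extend hbij α.toRingHom β.toRingHom h
    refine ⟨⟨a₂, fun r => ?_⟩, AlgHom.ext ha₁, AlgHom.ext ha₂⟩
    show a₂ (algebraMap R B' r) = _
    rw [IsScalarTower.algebraMap_apply R (R' ⊗[R] A) B', ha₂]
    exact β.commutes r
  · obtain ⟨z, hz⟩ := hk
    obtain ⟨v₁, -, hv⟩ := exists_pt_of_isPullback (g := c₁) sq₁ (x := z) (t := p) hz
    refine ⟨PrimeSpectrum.comap q₂.toRingHom v₁, ?_⟩
    rw [← hv]
    refine PrimeSpectrum.ext (Ideal.ext fun a => ?_)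
    show q₂ (algebraMap A B a) ∈ (v₁ : PrimeSpectrum B₁).asIdeal ↔ α₁ (loc a) ∈ (v₁ : PrimeSpectrum B₁).asIdeal
    rw [q₂.commutes]
    rfl
  · obtain ⟨z, hz⟩ := hk
    obtain ⟨v₂, -, hv⟩ := exists_pt_of_isPullback (g := c₂) sq₂ (x := z) (t := p) hz
    refine ⟨PrimeSpectrum.comap q₁.toRingHom v₂, ?_⟩
    rw [← hv]
    refine PrimeSpectrum.ext (Ideal.ext fun a => ?_)
    show q₁ (algebraMap A B a) ∈ (v₂ : PrimeSpectrum B').asIdeal ↔ α₂ (inc a) ∈ (v₂ : PrimeSpectrum B').asIdeal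
    rw [q₁.commutes]
    rfl

end Groth.Agent.GlueHom25
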